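import Cfsg.Agent.H76.CSy.Defs
import Cfsg.Agent.H34.Swaps

/-!
Inheritance of `OddCyclic`, `TwoSlim`; perfect groups and their actions on the solvable radical.
-/

set_option autoImplicit false

open Subgroup H76.CSy

namespace H23.CSy

universe u v w

variable {G : Type u} [Group G] {H : Type v} [Group H]

/-- A cyclic subgroup of index at most two. -/
def Slim (A : Type u) [Group A] : Prop := ∃ C : Subgroup A, IsCyclic C ∧ C.index ∣ 2

theorem normal_of_dvd_two {C : Subgroup G} (h : C.index ∣ 2) : C.Normal := by
  rcases (Nat.dvd_prime Nat.prime_two).1 h with h1 | h2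
  · rw [Subgroup.index_eq_one.1 h1]; infer_instance
  · exact Subgroup.normal_of_index_eq_two h2

theorem Slim.of_injective (f : H →* G) (hf : Function.Injective f) (h : Slim G) : Slim H := by
  obtain ⟨C, hC, hi⟩ := h
  haveI := normal_of_dvd_two hi
  refine ⟨C.comap f, ?_, ?_⟩
  · exact isCyclic_of_injective (f.subgroupComap C) fun a b hab =>
      Subtype.ext (hf (congrArg Subtype.val hab))
  · rw [Subgroup.index_comap]
    exact (Subgroup.relIndex_dvd_index_of_normal C f.range).trans hi

theorem Slim.of_surjective (f : G →* H) (hf : Function.Surjective f) (h : Slim G) : Slim H := by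
  obtain ⟨C, hC, hi⟩ := h
  exact ⟨C.map f, isCyclic_of_surjective _ (f.subgroupMap_surjective C),
    (Subgroup.index_map_dvd C hf).trans hi⟩

/-- Every 2-group inside a slim group is slim. -/
theorem slim_of_twoGroup (hG : TwoSlim G) (hH : IsPGroup 2 H) (f : H →* G)
    (hf : Function.Injective f) : Slim H := by
  have hR : IsPGroup 2 f.range := hH.of_surjective f.rangeRestrict f.rangeRestrict_surjective
  obtain ⟨S, hS⟩ := hR.exists_le_sylow
  refine Slim.of_injective (G := (S : Subgroup G))
    (f.codRestrict (S : Subgroup G) fun x => hS ⟨x, rfl⟩) ?_ (hG S)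
  exact fun a b hab => hf (congrArg Subtype.val hab)

theorem isCyclic_of_pGroup (hG : OddCyclic G) {p : ℕ} [Fact p.Prime] (hp : p ≠ 2)
    (hH : IsPGroup p H) (f : H →* G) (hf : Function.Injective f) : IsCyclic H := by
  have hR : IsPGroup p f.range := hH.of_surjective f.rangeRestrict f.rangeRestrict_surjective
  obtain ⟨S, hS⟩ := hR.exists_le_sylow
  haveI := hG p Fact.out hp S
  exact isCyclic_of_injective (f.codRestrict (S : Subgroup G) fun x => hS ⟨x, rfl⟩)
    fun a b hab => hf (congrArg Subtype.val hab)

theorem oddCyclic_of_injective (f : H →* G) (hf : Function.Injective f) (hG : OddCyclic G) :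
    OddCyclic H := fun p hp hp2 P =>
  haveI := Fact.mk hp
  isCyclic_of_pGroup hG hp2 P.isPGroup' (f.comp (P : Subgroup H).subtype)
    (hf.comp Subtype.val_injective)

theorem twoSlim_of_injective (f : H →* G) (hf : Function.Injective f) (hG : TwoSlim G) :
    TwoSlim H := fun S =>
  slim_of_twoGroup hG S.isPGroup' (f.comp (S : Subgroup H).subtype)
    (hf.comp Subtype.val_injective)

theorem oddCyclic_of_surjective [Finite G] (f : G →* H) (hf : Function.Surjective f)
    (hG : OddCyclic G) : OddCyclic H := by
  intro p hp hp2 P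
  haveI := Fact.mk hp
  obtain ⟨Q, rfl⟩ := Sylow.mapSurjective_surjective hf p P
  haveI := hG p hp hp2 Q
  exact isCyclic_of_surjective _ (f.subgroupMap_surjective (Q : Subgroup G))

theorem twoSlim_of_surjective [Finite G] (f : G →* H) (hf : Function.Surjective f)
    (hG : TwoSlim G) : TwoSlim H := by
  intro S
  haveI := Fact.mk Nat.prime_two
  obtain ⟨Q, rfl⟩ := Sylow.mapSurjective_surjective hf 2 S
  exact Slim.of_surjective _ (f.subgroupMap_surjective (Q : Subgroup G)) (hG Q)

/-- In a slim product of 2-groups with noncyclic first factor, the second factor is trivial. -/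
theorem card_eq_one_of_slim_prod {A : Type u} {B : Type v} [Group A] [Group B] [Finite A]
    [Finite B] (hA : IsPGroup 2 A) (hB : IsPGroup 2 B) (hnc : ¬ IsCyclic A)
    (h : Slim (A × B)) : Nat.card B = 1 := by
  haveI := Fact.mk Nat.prime_two
  obtain ⟨C, hC, hi⟩ := h
  obtain ⟨g, hg⟩ := hC.exists_generator
  have hcard : orderOf (g : A × B) = Nat.card C := by
    rw [Subgroup.orderOf_coe]; exact orderOf_eq_card_of_forall_mem_zpowers hg
  have hle : Nat.card A * Nat.card B ≤ 2 * orderOf (g : A × B) := by
    rw [← Nat.card_prod, ← C.card_mul_index, hcard, mul_comm 2 (Nat.card C)]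
    exact Nat.mul_le_mul_left _ (Nat.le_of_dvd two_pos hi)
  rw [Prod.orderOf] at hle
  have hBpos : 0 < Nat.card B := Nat.card_pos
  have hApos : 0 < Nat.card A := Nat.card_pos
  have hb : orderOf (g : A × B).2 ≤ Nat.card B := Nat.le_of_dvd hBpos (orderOf_dvd_natCard _)
  obtain ⟨m, hm⟩ := orderOf_dvd_natCard (g : A × B).1
  have hm2 : 2 ≤ m := by
    by_contra hlt
    interval_cases m
    · omega
    · exact hnc (isCyclic_of_orderOf_eq_card _ (by rw [hm, mul_one]))
  have ha : 2 * orderOf (g : A × B).1 ≤ Nat.card A := by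
    rw [hm, mul_comm 2]; exact Nat.mul_le_mul_left _ hm2
  obtain ⟨i, hia⟩ := IsPGroup.iff_orderOf.1 hA (g : A × B).1
  obtain ⟨j, hjb⟩ := IsPGroup.iff_orderOf.1 hB (g : A × B).2
  rw [hia, hjb] at hle
  rcases le_total j i with hji | hij
  · rw [Nat.lcm_eq_left (Nat.pow_dvd_pow 2 hji), ← hia] at hle
    have hle' : Nat.card A * Nat.card B ≤ Nat.card A * 1 := by rw [mul_one]; omega
    have := Nat.le_of_mul_le_mul_left hle' hApos
    omega
  · rw [Nat.lcm_eq_right (Nat.pow_dvd_pow 2 hij), ← hjb] at hle
    have hle' : Nat.card A * Nat.card B ≤ 2 * Nat.card B := by omega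
    have h2 : Nat.card A ≤ 2 := Nat.le_of_mul_le_mul_right hle' hBpos
    exfalso
    interval_cases hA' : Nat.card A
    · haveI := (Nat.card_eq_one_iff_unique.1 hA').1
      exact hnc isCyclic_of_subsingleton
    · exact hnc (isCyclic_of_prime_card (p := 2) hA')

/-- A group with cyclic odd Sylow subgroups and cyclic Sylow 2-subgroups is solvable. -/
theorem solvable_of_cyclic_two [Finite G] (hG : OddCyclic G) (S : Sylow 2 G) (hS : IsCyclic S) :
    Group.IsSolvable G := by
  haveI : IsZGroup G := by
    refine ⟨fun p hp P => ?_⟩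
    haveI := Fact.mk hp
    by_cases h2 : p = 2
    · subst h2
      exact isCyclic_of_surjective (S.equiv P).toMonoidHom (S.equiv P).surjective
    · exact hG p hp h2 P
  infer_instance

theorem solvable_of_odd [Finite G] (hG : OddCyclic G) (h : Odd (Nat.card G)) :
    Group.IsSolvable G := by
  haveI := Fact.mk Nat.prime_two
  obtain ⟨S⟩ : Nonempty (Sylow 2 G) := inferInstance
  have h1 : Nat.card S = 1 := by
    obtain ⟨k, hk⟩ := S.isPGroup'.exists_card_eq
    rcases Nat.eq_zero_or_pos k with rfl | hk0
    · simpa using hk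
    · exfalso
      have : 2 ∣ Nat.card G :=
        (dvd_pow_self 2 hk0.ne').trans (hk ▸ Subgroup.card_subgroup_dvd_card (S : Subgroup G))
      exact h.not_two_dvd_nat this
  haveI := (Nat.card_eq_one_iff_unique.1 h1).1
  exact solvable_of_cyclic_two hG S isCyclic_of_subsingleton

/-- If `A × B` is slim and `A` is nonsolvable with cyclic odd Sylows, then `B` has odd order. -/
theorem odd_of_twoSlim_prod {A : Type u} {B : Type v} [Group A] [Group B] [Finite A] [Finite B]
    (hA : ¬ Group.IsSolvable A) (hAo : OddCyclic A) (h : TwoSlim (A × B)) :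
    Odd (Nat.card B) := by
  haveI := Fact.mk Nat.prime_two
  obtain ⟨S⟩ : Nonempty (Sylow 2 A) := inferInstance
  obtain ⟨T⟩ : Nonempty (Sylow 2 B) := inferInstance
  have hnc : ¬ IsCyclic S := fun hc => hA (solvable_of_cyclic_two hAo S hc)
  obtain ⟨a, ha⟩ := S.isPGroup'.exists_card_eq
  obtain ⟨b, hb⟩ := T.isPGroup'.exists_card_eq
  have hP : IsPGroup 2 (S × T) :=
    IsPGroup.of_card (n := a + b) (by rw [Nat.card_prod, ha, hb, pow_add])
  have hs := slim_of_twoGroup h hP
    ((S : Subgroup A).subtype.prodMap (T : Subgroup B).subtype)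
    (Prod.map_injective.2 ⟨Subtype.val_injective, Subtype.val_injective⟩)
  have h1 := card_eq_one_of_slim_prod S.isPGroup' T.isPGroup' hnc hs
  rw [Nat.odd_iff, ← Nat.two_dvd_ne_zero]
  intro hd
  have := T.dvd_card_of_dvd_card hd
  rw [h1] at this
  omega

/-- A homomorphism from a perfect group to a solvable group is trivial. -/
theorem perfect_hom_eq_one {M : Type w} [Group M] (hM : Group.IsSolvable M)
    (hG : commutator G = ⊤) (f : G →* M) (x : G) : f x = 1 := by
  obtain ⟨n, hn⟩ := (Group.isSolvable_def M).1 hM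
  have htop : ∀ k, derivedSeries G k = ⊤ := by
    intro k
    induction k with
    | zero => rfl
    | succ k ih => rw [derivedSeries_succ, ih, ← commutator_def, hG]
  have := map_derivedSeries_le_derivedSeries f n
  rw [hn, htop n] at this
  exact (Subgroup.mem_bot).1 (this ⟨x, Subgroup.mem_top x, rfl⟩)

/-- The automorphism of an invariant subgroup. -/
def restrictAut {L : Type w} [Group L] (φ : L →* MulAut G) (B : Subgroup G)
    (hB : ∀ l, ∀ b ∈ B, φ l b ∈ B) : L →* MulAut B where
  toFun l :=
    { toFun := fun b => ⟨φ l b, hB l b b.2⟩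
      invFun := fun b => ⟨φ l⁻¹ b, hB l⁻¹ b b.2⟩
      left_inv := fun b => Subtype.ext (by
        show φ l⁻¹ (φ l b) = b
        rw [← MulAut.mul_apply, ← map_mul, inv_mul_cancel, map_one, MulAut.one_apply])
      right_inv := fun b => Subtype.ext (by
        show φ l (φ l⁻¹ b) = b
        rw [← MulAut.mul_apply, ← map_mul, mul_inv_cancel, map_one, MulAut.one_apply])
      map_mul' := fun a b => Subtype.ext (map_mul (φ l) (a : G) b) }
  map_one' := MulEquiv.ext fun b => Subtype.ext (by
    show φ 1 b = (b : G)
    rw [map_one, MulAut.one_apply])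
  map_mul' l m := MulEquiv.ext fun b => Subtype.ext (by
    show φ (l * m) b = φ l (φ m b)
    rw [map_mul, MulAut.mul_apply])

/-- A perfect group acts trivially on an abelian group with these Sylow conditions. -/
theorem aut_trivial {A : Type u} [CommGroup A] [Finite A] (ho : OddCyclic A) (hs : TwoSlim A)
    {L : Type v} [Group L] (hL : commutator L = ⊤) (φ : L →* MulAut A) (l : L) : φ l = 1 := by
  haveI := Fact.mk Nat.prime_two
  set sq : A →* A := powMonoidHom 2 with hsq
  -- the squares form a cyclic group
  haveI hZ : IsZGroup sq.range := by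
    refine ⟨fun p hp P => ?_⟩
    haveI := Fact.mk hp
    by_cases h2 : p = 2
    · subst h2
      obtain ⟨S⟩ : Nonempty (Sylow 2 A) := inferInstance
      letI := Sylow.unique_of_normal S inferInstance
      obtain ⟨C, hC, hi⟩ := hs S
      have key : ∀ x : (P : Subgroup sq.range), ∃ c : C, ((c : S) : A) = ((x : sq.range) : A) := by
        intro x
        obtain ⟨a, ha⟩ := (x : sq.range).2
        change a ^ 2 = ((x : sq.range) : A) at ha
        obtain ⟨k, hk⟩ := P.isPGroup' x
        have ha2 : a ^ 2 ^ (k + 1) = 1 := by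
          rw [pow_succ', pow_mul, ha]
          have := congrArg (fun y : (P : Subgroup sq.range) => ((y : sq.range) : A)) hk
          simpa using this
        have haS : a ∈ (S : Subgroup A) := by
          obtain ⟨i, -, hoi⟩ := (Nat.dvd_prime_pow Nat.prime_two).1 (orderOf_dvd_of_pow_eq_one ha2)
          obtain ⟨S', hS'⟩ := (IsPGroup.of_card (p := 2) (n := i)
            (by rw [Nat.card_zpowers, hoi] : Nat.card (zpowers a) = 2 ^ i)).exists_le_sylow
          rw [Subsingleton.elim S S']
          exact hS' (mem_zpowers a)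
        have hsqC : (⟨a, haS⟩ : S) ^ 2 ∈ C := by
          rcases (Nat.dvd_prime Nat.prime_two).1 hi with h1 | h2
          · rw [Subgroup.index_eq_one.1 h1]; exact mem_top _
          · exact Subgroup.sq_mem_of_index_two h2 _
        exact ⟨⟨_, hsqC⟩, by simpa using ha⟩
      choose c hc using key
      let f : (P : Subgroup sq.range) →* C :=
        MonoidHom.mk' c fun x y => by
          apply Subtype.ext; apply Subtype.ext
          push_cast
          rw [hc, hc, hc]
          rfl
      exact isCyclic_of_injective f fun x y hxy => by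
        apply Subtype.ext; apply Subtype.ext
        rw [← hc x, ← hc y]
        exact congrArg (fun z : C => ((z : S) : A)) hxy
    · exact isCyclic_of_pGroup ho h2 P.isPGroup'
        (sq.range.subtype.comp (P : Subgroup sq.range).subtype)
        (Subtype.val_injective.comp Subtype.val_injective)
  haveI : IsCyclic sq.range := inferInstance
  have hB : ∀ l, ∀ b ∈ sq.range, φ l b ∈ sq.range := by
    rintro l _ ⟨a, rfl⟩
    exact ⟨φ l a, by simp [hsq]⟩
  have hfix : ∀ (l : L), ∀ b ∈ sq.range, φ l b = b := by
    intro l b hb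
    have hsol : Group.IsSolvable (MulAut sq.range) :=
      Group.isSolvable_of_comm fun a c =>
        (IsCyclic.mulAutMulEquiv sq.range).injective (by rw [map_mul, map_mul, mul_comm])
    have := perfect_hom_eq_one hsol hL (restrictAut φ sq.range hB) l
    exact congrArg Subtype.val (MulEquiv.congr_fun this ⟨b, hb⟩)
  -- the kernel of squaring has order at most four
  have hker : Nat.card sq.ker ≤ 4 := by
    have hK : IsPGroup 2 sq.ker := fun x => ⟨1, Subtype.ext (MonoidHom.mem_ker.1 x.2)⟩
    obtain ⟨C, hC, hi⟩ := slim_of_twoGroup hs hK sq.ker.subtype Subtype.val_injective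
    obtain ⟨g, hg⟩ := hC.exists_generator
    have h1 : Nat.card C ≤ 2 := by
      rw [← orderOf_eq_card_of_forall_mem_zpowers hg]
      refine Nat.le_of_dvd two_pos (orderOf_dvd_of_pow_eq_one ?_)
      apply Subtype.ext; apply Subtype.ext
      exact MonoidHom.mem_ker.1 (g : sq.ker).2
    calc Nat.card sq.ker = Nat.card C * C.index := C.card_mul_index.symm
      _ ≤ 2 * 2 := Nat.mul_le_mul h1 (Nat.le_of_dvd two_pos hi)
      _ = 4 := rfl
  have hquot : Nat.card (A ⧸ sq.range) ≤ 4 := by
    have e1 := sq.range.card_eq_card_quotient_mul_card_subgroup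
    have e2 := sq.ker.card_eq_card_quotient_mul_card_subgroup
    rw [Nat.card_congr (QuotientGroup.quotientKerEquivRange sq).toEquiv] at e2
    have : Nat.card (A ⧸ sq.range) = Nat.card sq.ker :=
      Nat.eq_of_mul_eq_mul_right (m := Nat.card sq.range) Nat.card_pos
        (by rw [← e1, e2, mul_comm])
    omega
  let π : L →* Equiv.Perm (A ⧸ sq.range) :=
    MonoidHom.mk' (fun l =>
      { toFun := QuotientGroup.map _ _ (φ l).toMonoidHom (show sq.range ≤ sq.range.comap (φ l).toMonoidHom from fun b hb => hB l b hb)
        invFun := QuotientGroup.map _ _ (φ l⁻¹).toMonoidHom (show sq.range ≤ sq.range.comap (φ l⁻¹).toMonoidHom from fun b hb => hB l⁻¹ b hb)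
        left_inv := fun q => by
          induction q using QuotientGroup.induction_on with
          | _ a =>
            show QuotientGroup.mk (φ l⁻¹ (φ l a)) = QuotientGroup.mk a
            rw [← MulAut.mul_apply, ← map_mul, inv_mul_cancel, map_one, MulAut.one_apply]
        right_inv := fun q => by
          induction q using QuotientGroup.induction_on with
          | _ a =>
            show QuotientGroup.mk (φ l (φ l⁻¹ a)) = QuotientGroup.mk a
            rw [← MulAut.mul_apply, ← map_mul, mul_inv_cancel, map_one, MulAut.one_apply] })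
      fun l m => Equiv.ext fun q => by
        induction q using QuotientGroup.induction_on with
        | _ a =>
          show QuotientGroup.mk (φ (l * m) a) = QuotientGroup.mk (φ l (φ m a))
          rw [map_mul, MulAut.mul_apply]
  have hmod : ∀ (l : L) (a : A), a⁻¹ * φ l a ∈ sq.range := by
    intro l a
    have := perfect_hom_eq_one (H34.Swaps.isSolvable_perm_le_four hquot) hL π l
    have h2 : ((φ l a : A) : A ⧸ sq.range) = (a : A ⧸ sq.range) := by
      simpa [π] using Equiv.congr_fun this (a : A ⧸ sq.range)
    exact QuotientGroup.eq.1 h2.symm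
  have hcomm : Group.IsSolvable φ.range := by
    refine Group.isSolvable_of_comm ?_
    rintro ⟨_, l, rfl⟩ ⟨_, m, rfl⟩
    refine Subtype.ext (MulEquiv.ext fun x => ?_)
    show φ l (φ m x) = φ m (φ l x)
    have e1 : φ l (φ m x) = φ l x * (x⁻¹ * φ m x) := by
      conv_lhs => rw [← mul_inv_cancel_left x (φ m x)]
      rw [map_mul, hfix l _ (hmod m x)]
    have e2 : φ m (φ l x) = φ m x * (x⁻¹ * φ l x) := by
      conv_lhs => rw [← mul_inv_cancel_left x (φ l x)]
      rw [map_mul, hfix m _ (hmod l x)]
    rw [e1, e2, mul_left_comm, mul_left_comm (φ m x), mul_comm (φ l x)]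
  exact congrArg Subtype.val (perfect_hom_eq_one hcomm hL φ.rangeRestrict l)

theorem abSurj {G : Type u} [Group G] : Function.Surjective (Abelianization.of (G := G)) :=
  QuotientGroup.mk_surjective

/-- A normal solvable subgroup of a perfect group with these Sylow conditions is central. -/
theorem le_center_of_solvable [Finite G] (hG : commutator G = ⊤) (ho : OddCyclic G)
    (hs : TwoSlim G) :
    ∀ (Z : Subgroup G) [Z.Normal], Group.IsSolvable Z → Z ≤ center G := by
  intro Z
  induction Z using WellFoundedLT.induction with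
  | ind Z ih =>
    intro hN hZ
    by_cases hbot : Z = ⊥
    · rw [hbot]; exact bot_le
    haveI : Nontrivial Z := (Subgroup.nontrivial_iff_ne_bot Z).2 hbot
    have hlt : ⁅Z, Z⁆ < Z := by
      refine lt_of_le_of_ne (Subgroup.commutator_le_self Z) fun he => ?_
      refine (hZ.commutator_lt_top_of_nontrivial Z).ne ?_
      apply Subgroup.map_injective Z.subtype_injective
      rw [Subgroup.map_subtype_commutator, he, ← MonoidHom.range_eq_map, Subgroup.range_subtype]
    haveI := hZ
    have hsol1 : Group.IsSolvable ↥(⁅Z, Z⁆ : Subgroup G) :=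
      Group.isSolvable_of_isSolvable_injective (Subgroup.inclusion_injective hlt.le)
    have hc1 : ⁅Z, Z⁆ ≤ center G := ih _ hlt hsol1
    let φ : G →* MulAut (Abelianization Z) :=
      MonoidHom.mk' (fun g => (MulAut.conjNormal g).abelianizationCongr) fun g h => by
        refine MulEquiv.ext fun q => ?_
        obtain ⟨z, rfl⟩ := abSurj q
        simp
    have hoZ := oddCyclic_of_injective Z.subtype Z.subtype_injective ho
    have hsZ := twoSlim_of_injective Z.subtype Z.subtype_injective hs
    have hmod : ∀ (g : G) (z : Z), g * z * g⁻¹ * (z : G)⁻¹ ∈ ⁅Z, Z⁆ := by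
      intro g z
      have h1 := aut_trivial (oddCyclic_of_surjective _ abSurj hoZ)
        (twoSlim_of_surjective _ abSurj hsZ) hG φ g
      have h2 : Abelianization.of (MulAut.conjNormal g z) = Abelianization.of z := by
        simpa [φ] using MulEquiv.congr_fun h1 (Abelianization.of z)
      have h3 : MulAut.conjNormal g z * z⁻¹ ∈ commutator Z := by
        rw [← Abelianization.ker_of, MonoidHom.mem_ker, map_mul, h2, ← map_mul,
          mul_inv_cancel, map_one]
      have h4 := Subgroup.mem_map_of_mem Z.subtype h3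
      rw [Subgroup.map_subtype_commutator] at h4
      simpa using h4
    intro z hz
    rw [Subgroup.mem_center_iff]
    intro g
    let d : G →* ↥(⁅Z, Z⁆ : Subgroup G) :=
      MonoidHom.mk' (fun g => ⟨g * z * g⁻¹ * z⁻¹, hmod g ⟨z, hz⟩⟩) fun g h => by
        apply Subtype.ext
        show g * h * z * (g * h)⁻¹ * z⁻¹ = g * z * g⁻¹ * z⁻¹ * (h * z * h⁻¹ * z⁻¹)
        have hh := Subgroup.mem_center_iff.1 (hc1 (hmod h ⟨z, hz⟩)) (g * z * g⁻¹ * z⁻¹)
        rw [hh]
        have hg' := Subgroup.mem_center_iff.1 (hc1 (hmod h ⟨z, hz⟩)) g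
        calc g * h * z * (g * h)⁻¹ * z⁻¹
            = (g * (h * z * h⁻¹ * z⁻¹)) * z * g⁻¹ * z⁻¹ := by group
          _ = ((h * z * h⁻¹ * z⁻¹) * g) * z * g⁻¹ * z⁻¹ := by rw [hg']
          _ = h * z * h⁻¹ * z⁻¹ * (g * z * g⁻¹ * z⁻¹) := by group
    have := congrArg Subtype.val (perfect_hom_eq_one hsol1 hG d g)
    change g * z * g⁻¹ * z⁻¹ = 1 at this
    rw [mul_inv_eq_one, mul_inv_eq_iff_eq_mul] at this
    exact this

end H23.CSy
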