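import Cfsg.Agent.H23.CSy.Basic
import Cfsg.Agent.H39.SL2Multiplier
import Cfsg.Agent.H70.SL2Facts
import Cfsg.Agent.H37.Card
import Cfsg.Agent.H76.CoverLift
import Cfsg.Agent.S0813

/-!
`PSL(2,p)` and `SL(2,p)`: covers, centres, the bound on outer automorphisms.
-/

set_option autoImplicit false

open Subgroup Matrix
open scoped commutatorElement

namespace H23.CSy

universe u v

/-- `PSL(2,p)` or `SL(2,p)`, with `p ≥ 5`. -/
def Good (L : Type u) [Group L] : Prop :=
  ∃ (p : ℕ) (_ : Fact p.Prime), 5 ≤ p ∧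
    (Nonempty (L ≃* ProjectiveSpecialLinearGroup (Fin 2) (ZMod p)) ∨
      Nonempty (L ≃* SpecialLinearGroup (Fin 2) (ZMod p)))

section SL

variable (p : ℕ) [Fact p.Prime]

theorem sl_perfect (h5 : 5 ≤ p) : commutator (SpecialLinearGroup (Fin 2) (ZMod p)) = ⊤ :=
  H70.sl2_perfect (by rw [ZMod.card]; omega)

theorem card_center_sl (h5 : 5 ≤ p) :
    Nat.card (center (SpecialLinearGroup (Fin 2) (ZMod p))) = 2 := by
  rw [H37.card_center_SL (n := Fin 2) (F := ZMod p), Fintype.card_fin, Nat.card_zmod]
  obtain ⟨k, hk⟩ := (Fact.out : p.Prime).odd_of_ne_two (by omega)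
  rw [hk, Nat.gcd_eq_left (Dvd.intro k (by omega))]

theorem center_quotient_eq_bot {S : Type u} [Group S] (hS : commutator S = ⊤) :
    center (S ⧸ center S) = ⊥ := by
  rw [eq_bot_iff]
  intro q hq
  induction q using QuotientGroup.induction_on with
  | _ x =>
    rw [mem_bot, QuotientGroup.eq_one_iff, mem_center_iff]
    intro g
    have hc : ∀ g : S, g * x * g⁻¹ * x⁻¹ ∈ center S := by
      intro g
      rw [← QuotientGroup.eq_one_iff]
      show (g : S ⧸ center S) * (x : S ⧸ center S) * (g : S ⧸ center S)⁻¹ *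
        (x : S ⧸ center S)⁻¹ = 1
      rw [mem_center_iff.1 hq g]
      group
    let f : S →* center S := MonoidHom.mk' (fun g => ⟨g * x * g⁻¹ * x⁻¹, hc g⟩) fun g h => by
      apply Subtype.ext
      show g * h * x * (g * h)⁻¹ * x⁻¹ = g * x * g⁻¹ * x⁻¹ * (h * x * h⁻¹ * x⁻¹)
      calc g * h * x * (g * h)⁻¹ * x⁻¹
          = g * (h * x * h⁻¹ * x⁻¹) * x * g⁻¹ * x⁻¹ := by group
        _ = (h * x * h⁻¹ * x⁻¹) * g * x * g⁻¹ * x⁻¹ := by rw [mem_center_iff.1 (hc h) g]
        _ = (h * x * h⁻¹ * x⁻¹) * (g * x * g⁻¹ * x⁻¹) := by group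
        _ = g * x * g⁻¹ * x⁻¹ * (h * x * h⁻¹ * x⁻¹) := (mem_center_iff.1 (hc h) _).symm
    have h := congrArg Subtype.val (perfect_hom_eq_one (Group.isSolvable_of_comm fun a b =>
      Subtype.ext ((mem_center_iff.1 b.2 a))) hS f g)
    change g * x * g⁻¹ * x⁻¹ = 1 at h
    rwa [mul_inv_eq_one, mul_inv_eq_iff_eq_mul] at h

theorem center_psl (h5 : 5 ≤ p) : center (ProjectiveSpecialLinearGroup (Fin 2) (ZMod p)) = ⊥ :=
  center_quotient_eq_bot (sl_perfect p h5)

theorem card_mulAut_psl (h5 : 5 ≤ p) :
    Nat.card (MulAut (ProjectiveSpecialLinearGroup (Fin 2) (ZMod p))) =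
      2 * Nat.card (ProjectiveSpecialLinearGroup (Fin 2) (ZMod p)) := by
  rw [Cfsg.Agent.S0813.result p 1 le_rfl (by rw [ZMod.card, pow_one]) 2 le_rfl
    (fun _ => by rw [pow_one]; omega), if_pos rfl, one_mul, one_mul, H37.card_PGL_eq_card_SL,
    H37.card_SL_eq_card_center_mul_card_PSL, card_center_sl p h5]

/-- A perfect central extension of `PSL(2,p)` is `PSL(2,p)` or `SL(2,p)`. -/
theorem perfect_cover (h5 : 5 ≤ p) {E : Type u} [Group E] [Finite E] (hE : commutator E = ⊤)
    (φ : E →* ProjectiveSpecialLinearGroup (Fin 2) (ZMod p)) (hs : Function.Surjective φ)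
    (hc : φ.ker ≤ center E) : Good E := by
  set S := SpecialLinearGroup (Fin 2) (ZMod p) with hSdef
  let π : S →* ProjectiveSpecialLinearGroup (Fin 2) (ZMod p) := QuotientGroup.mk' (center S)
  have hπ : Function.Surjective π := QuotientGroup.mk'_surjective _
  let P : Subgroup (E × S) := (φ.comp (MonoidHom.fst E S)).eqLocus (π.comp (MonoidHom.snd E S))
  let σ : P →* S := (MonoidHom.snd E S).comp P.subtype
  have hσc : σ.ker ≤ center P := by
    rintro ⟨⟨x, s⟩, hxs⟩ hz
    have hs1 : s = 1 := hz
    subst hs1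
    have hx : x ∈ φ.ker := by
      show φ x = 1
      rw [← map_one π]
      exact hxs
    refine mem_center_iff.2 fun g => Subtype.ext (Prod.ext ?_ ?_)
    · exact mem_center_iff.1 (hc hx) _
    · show (g : E × S).2 * 1 = 1 * (g : E × S).2
      rw [one_mul, mul_one]
  have hσs : Function.Surjective σ := by
    intro s
    obtain ⟨x, hx⟩ := hs (π s)
    exact ⟨⟨(x, s), hx⟩, rfl⟩
  have hD : (commutator P).map σ = ⊤ := by
    rw [map_commutator_eq, MonoidHom.range_eq_top.2 hσs, ← commutator_def, sl_perfect p h5]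
  let τ : ↥(commutator P) →* S := σ.comp (commutator P).subtype
  have hτs : Function.Surjective τ := by
    intro x
    obtain ⟨y, hy, rfl⟩ := hD.ge (mem_top x)
    exact ⟨⟨y, hy⟩, rfl⟩
  have hperf : commutator ↥(commutator P) = ⊤ := by
    apply Subgroup.map_injective (commutator P).subtype_injective
    rw [Subgroup.map_subtype_commutator, ← MonoidHom.range_eq_map, Subgroup.range_subtype]
    apply le_antisymm (commutator P).commutator_le_self
    refine Subgroup.commutator_le.2 fun a _ b _ => ?_
    obtain ⟨a', ha'⟩ := hτs (σ a)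
    obtain ⟨b', hb'⟩ := hτs (σ b)
    rw [H76.Cover.comm_congr σ hσc (x' := (a' : P)) (y' := (b' : P)) ha'.symm hb'.symm]
    exact commutator_mem_commutator a'.2 b'.2
  have hker : τ.ker = ⊥ := H39.stem_ker_eq_bot (F := ZMod p) p (by rw [ZMod.card]; omega)
    (by
      rw [ZMod.card]
      intro h9
      exact absurd (h9 ▸ (Fact.out : p.Prime)) (by norm_num))
    ⟨hτs, fun z hz => mem_center_iff.2 fun g =>
      Subtype.ext (mem_center_iff.1 (hσc hz) g), hperf ▸ le_top⟩
  let e := MulEquiv.ofBijective τ ⟨(MonoidHom.ker_eq_bot_iff τ).1 hker, hτs⟩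
  let r : P →* E := (MonoidHom.fst E S).comp P.subtype
  have hrs : Function.Surjective r := by
    intro x
    obtain ⟨s, hs'⟩ := hπ (φ x)
    exact ⟨⟨(x, s), hs'.symm⟩, rfl⟩
  let f : S →* E := (r.comp (commutator P).subtype).comp e.symm.toMonoidHom
  have hfs : Function.Surjective f := by
    have h1 : (commutator P).map r = ⊤ := by
      rw [map_commutator_eq, MonoidHom.range_eq_top.2 hrs, ← commutator_def, hE]
    intro x
    obtain ⟨y, hy, rfl⟩ := h1.ge (mem_top x)
    exact ⟨e ⟨y, hy⟩, by simp [f]⟩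
  have hφf : ∀ s, φ (f s) = π s := by
    intro s
    have h2 : φ (r (e.symm s : P)) = π (σ (e.symm s : P)) := (e.symm s : P).2
    rw [show σ (e.symm s : P) = s from e.apply_symm_apply s] at h2
    exact h2
  have hle : f.ker ≤ center S := by
    intro s hs'
    rw [← QuotientGroup.eq_one_iff]
    show π s = 1
    rw [← hφf, MonoidHom.mem_ker.1 hs', map_one]
  refine ⟨p, inferInstance, h5, ?_⟩
  rcases (Nat.dvd_prime Nat.prime_two).1 (card_center_sl p h5 ▸ Subgroup.card_dvd_of_le hle) with
    h1 | h2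
  · exact Or.inr ⟨(MulEquiv.ofBijective f
      ⟨(MonoidHom.ker_eq_bot_iff f).1 (Subgroup.eq_bot_of_card_eq _ h1), hfs⟩).symm⟩
  · have heq : f.ker = center S :=
      Subgroup.eq_of_le_of_card_ge hle (by rw [h2, card_center_sl p h5])
    exact Or.inl ⟨(QuotientGroup.quotientKerEquivOfSurjective f hfs).symm.trans
      (QuotientGroup.quotientMulEquivOfEq heq)⟩

end SL

theorem map_center_equiv {A : Type u} {B : Type v} [Group A] [Group B] (e : A ≃* B) :
    (center A).map e.toMonoidHom = center B := by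
  ext b
  obtain ⟨a, rfl⟩ := e.surjective b
  constructor
  · rintro ⟨a', ha', h⟩
    rw [mem_center_iff]
    intro y
    obtain ⟨y', rfl⟩ := e.surjective y
    obtain rfl : a' = a := e.injective h
    rw [← map_mul, ← map_mul, mem_center_iff.1 ha' y']
  · intro h
    refine ⟨a, mem_center_iff.2 fun y => e.injective ?_, rfl⟩
    rw [map_mul, map_mul, mem_center_iff.1 h]

theorem Good.center_facts {L : Type u} [Group L] (h : Good L) :
    Nat.card (center L) ∣ 2 ∧ ∃ (p : ℕ) (_ : Fact p.Prime), 5 ≤ p ∧
      Nonempty (L ⧸ center L ≃* ProjectiveSpecialLinearGroup (Fin 2) (ZMod p)) := by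
  obtain ⟨p, hp, h5, h | h⟩ := h <;> obtain ⟨e⟩ := h
  · have hb : center L = ⊥ := by
      apply Subgroup.map_injective (f := e.toMonoidHom) e.injective
      rw [map_center_equiv, center_psl p h5, Subgroup.map_bot]
    refine ⟨by rw [hb, Subgroup.card_bot]; exact one_dvd _, p, hp, h5, ⟨?_⟩⟩
    exact ((QuotientGroup.quotientMulEquivOfEq hb).trans QuotientGroup.quotientBot).trans e
  · refine ⟨?_, p, hp, h5, ⟨QuotientGroup.congr _ _ e (map_center_equiv e)⟩⟩
    rw [← card_center_sl p h5, ← map_center_equiv e,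
      Subgroup.card_map_of_injective (f := e.toMonoidHom) e.injective]

theorem good_of_equiv {L : Type u} {M : Type v} [Group L] [Group M] (e : L ≃* M) (h : Good M) :
    Good L := by
  obtain ⟨p, hp, h5, h | h⟩ := h <;> obtain ⟨f⟩ := h
  · exact ⟨p, hp, h5, Or.inl ⟨e.trans f⟩⟩
  · exact ⟨p, hp, h5, Or.inr ⟨e.trans f⟩⟩

/-- For a perfect normal `L` of type `PSL/SL(2,p)`, `L C(L)` has index at most two. -/
theorem index_sup_centralizer {G : Type u} [Group G] [Finite G] (L : Subgroup G) [L.Normal]
    (hL : commutator L = ⊤) (hgood : Good L) :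
    (L ⊔ centralizer (L : Set G)).index ∣ 2 := by
  obtain ⟨-, p, hp, h5, ⟨e⟩⟩ := hgood.center_facts
  set Q := L ⧸ center L
  haveI : (centralizer (L : Set G)).Normal := Subgroup.normal_centralizer
  let ψ : G →* MulAut Q :=
    MonoidHom.mk' (fun g => QuotientGroup.congr _ _ (MulAut.conjNormal g) (map_center_equiv _))
      fun g h => MulEquiv.ext fun q => by
        induction q using QuotientGroup.induction_on with
        | _ a =>
          show QuotientGroup.mk (MulAut.conjNormal (g * h) a) =
            QuotientGroup.mk (MulAut.conjNormal g (MulAut.conjNormal h a))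
          rw [map_mul, MulAut.mul_apply]
  have hψker : ψ.ker = centralizer (L : Set G) := by
    ext g
    rw [MonoidHom.mem_ker, mem_centralizer_iff]
    constructor
    · intro hg
      have hm : ∀ l : L, MulAut.conjNormal g l * l⁻¹ ∈ center L := by
        intro l
        have h1 : (QuotientGroup.mk (MulAut.conjNormal g l) : Q) = QuotientGroup.mk l :=
          MulEquiv.congr_fun hg (QuotientGroup.mk l)
        rw [← QuotientGroup.eq_one_iff]
        show (QuotientGroup.mk (MulAut.conjNormal g l) : Q) * (QuotientGroup.mk l : Q)⁻¹ = 1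
        rw [h1, mul_inv_cancel]
      let d : L →* center L :=
        MonoidHom.mk' (fun l => ⟨MulAut.conjNormal g l * l⁻¹, hm l⟩) fun l m => by
          apply Subtype.ext
          show MulAut.conjNormal g (l * m) * (l * m)⁻¹ =
            MulAut.conjNormal g l * l⁻¹ * (MulAut.conjNormal g m * m⁻¹)
          calc MulAut.conjNormal g (l * m) * (l * m)⁻¹
              = MulAut.conjNormal g l * (MulAut.conjNormal g m * m⁻¹) * l⁻¹ := by
                rw [map_mul]; group
            _ = (MulAut.conjNormal g m * m⁻¹) * MulAut.conjNormal g l * l⁻¹ := by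
                rw [mem_center_iff.1 (hm m)]
            _ = (MulAut.conjNormal g m * m⁻¹) * (MulAut.conjNormal g l * l⁻¹) := by group
            _ = _ := (mem_center_iff.1 (hm m) _).symm
      intro l hl
      have h2 := congrArg Subtype.val (perfect_hom_eq_one (Group.isSolvable_of_comm fun a b =>
        Subtype.ext ((mem_center_iff.1 b.2 a))) hL d ⟨l, hl⟩)
      change MulAut.conjNormal g ⟨l, hl⟩ * (⟨l, hl⟩ : L)⁻¹ = 1 at h2
      have h3 := congrArg (fun x : L => (x : G)) (mul_inv_eq_one.1 h2)
      simp only [MulAut.conjNormal_apply] at h3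
      exact (mul_inv_eq_iff_eq_mul.1 h3).symm
    · intro hg
      refine MulEquiv.ext fun q => ?_
      induction q using QuotientGroup.induction_on with
      | _ a =>
        show QuotientGroup.mk (MulAut.conjNormal g a) = QuotientGroup.mk a
        congr 1
        apply Subtype.ext
        rw [MulAut.conjNormal_apply, ← hg a a.2, mul_inv_cancel_right]
  have hcardQ : Nat.card (MulAut Q) = 2 * Nat.card Q := by
    rw [Nat.card_congr (MulAut.congr e).toEquiv, card_mulAut_psl p h5, Nat.card_congr e.toEquiv]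
  haveI : Finite (MulAut Q) := Nat.finite_of_card_ne_zero (by
    rw [hcardQ]; have := Nat.card_pos (α := Q); omega)
  have hidx : (centralizer (L : Set G)).index ∣ 2 * Nat.card Q := by
    rw [← hψker, Subgroup.index_ker, ← hcardQ]
    exact Subgroup.card_subgroup_dvd_card _
  have hrel : (centralizer (L : Set G)).relIndex (L ⊔ centralizer (L : Set G)) = Nat.card Q := by
    rw [Subgroup.relIndex_sup_right]
    show ((centralizer (L : Set G)).subgroupOf L).index = Nat.card Q
    have : (centralizer (L : Set G)).subgroupOf L = center L := by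
      ext l
      rw [mem_subgroupOf, mem_centralizer_iff, mem_center_iff]
      exact ⟨fun h m => Subtype.ext (h m m.2), fun h m hm => congrArg Subtype.val (h ⟨m, hm⟩)⟩
    rw [this]
    rfl
  rw [← Subgroup.relIndex_mul_index (le_sup_right : centralizer (L : Set G) ≤
    L ⊔ centralizer (L : Set G)), hrel, mul_comm 2] at hidx
  exact Nat.dvd_of_mul_dvd_mul_left Nat.card_pos hidx

end H23.CSy
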