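import Cfsg.Agent.H23.CSy.PSL

/-!
Reduction of S4069 to simple groups.
-/

set_option autoImplicit false

open Subgroup Matrix H76.CSy

namespace H23.CSy

universe u

variable {G : Type u} [Group G] [Finite G]

/-- The last term of the derived series. -/
theorem exists_perfect_core (G : Type u) [Group G] [Finite G] :
    ∃ L : Subgroup G, L.Characteristic ∧ commutator L = ⊤ ∧
      (L = ⊥ → Group.IsSolvable G) := by
  obtain ⟨L, ⟨n, rfl⟩, hmin⟩ := (wellFounded_lt (α := Subgroup G)).has_min
    (Set.range (derivedSeries G)) ⟨_, ⟨0, rfl⟩⟩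
  refine ⟨derivedSeries G n, derivedSeries_characteristic G n, ?_, fun h => ⟨⟨n, h⟩⟩⟩
  apply Subgroup.map_injective (derivedSeries G n).subtype_injective
  rw [Subgroup.map_subtype_commutator, ← MonoidHom.range_eq_map, Subgroup.range_subtype]
  rcases eq_or_lt_of_le (Subgroup.commutator_le_self (derivedSeries G n)) with h | h
  · exact h
  · exact absurd h (hmin _ ⟨n + 1, derivedSeries_succ G n⟩)

theorem eq_top_of_dvd_two (hG : commutator G = ⊤) {M : Subgroup G} (h : M.index ∣ 2) : M = ⊤ := by
  haveI := normal_of_dvd_two h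
  rcases (Nat.dvd_prime Nat.prime_two).1 h with h1 | h2
  · exact Subgroup.index_eq_one.1 h1
  · haveI : IsCyclic (G ⧸ M) := isCyclic_of_prime_card (p := 2) h2
    rw [eq_top_iff]
    intro x _
    rw [← QuotientGroup.eq_one_iff]
    exact perfect_hom_eq_one (Group.isSolvable_of_comm fun a b => IsCyclic.commGroup.mul_comm a b)
      hG (QuotientGroup.mk' M) x

theorem not_solvable_of_perfect {A : Type u} [Group A] [Nontrivial A] (hA : commutator A = ⊤) :
    ¬ Group.IsSolvable A := fun h => by
  obtain ⟨x, hx⟩ := exists_ne (1 : A)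
  exact hx (perfect_hom_eq_one h hA (MonoidHom.id A) x)

/-- The conclusion from the structure of perfect subgroups. -/
theorem concl_of_core (hns : ¬ Group.IsSolvable G) (ho : OddCyclic G) (hs : TwoSlim G)
    (hcore : ∀ P : Subgroup G, P ≠ ⊥ → commutator P = ⊤ → Good P) : Concl G := by
  obtain ⟨L, hLc, hLperf, hLbot⟩ := exists_perfect_core G
  haveI := hLc
  have hne : L ≠ ⊥ := fun h => hns (hLbot h)
  have hgood : Good L := hcore L hne hLperf
  set C := centralizer (L : Set G) with hC
  haveI : C.Normal := Subgroup.normal_centralizer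
  have hidx : (L ⊔ C).index ∣ 2 := index_sup_centralizer L hLperf hgood
  obtain ⟨hz2, -⟩ := hgood.center_facts
  set Zc : Subgroup C := L.subgroupOf C
  have hZcard : Nat.card Zc ∣ 2 := by
    rw [← Subgroup.card_map_of_injective (f := C.subtype) C.subtype_injective,
      Subgroup.subgroupOf_map_subtype]
    have : L ⊓ C = (center L).map L.subtype := by
      ext x
      constructor
      · rintro ⟨hx, hxc⟩
        exact ⟨⟨x, hx⟩, mem_center_iff.2 fun m => Subtype.ext (hxc m m.2), rfl⟩
      · rintro ⟨m, hm, rfl⟩
        exact ⟨m.2, fun y hy => congrArg Subtype.val (mem_center_iff.1 hm ⟨y, hy⟩)⟩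
    rw [this, Subgroup.card_map_of_injective L.subtype_injective]
    exact hz2
  -- the quotient `C / Z` has odd order
  have hodd : Odd Zc.index := by
    have hA : ¬ Group.IsSolvable (L ⧸ center L) := by
      intro h
      apply hne
      rw [Subgroup.eq_bot_iff_forall]
      intro x hx
      have hall : ∀ y : L, y ∈ center L := fun y =>
        (QuotientGroup.eq_one_iff y).1 (perfect_hom_eq_one h hLperf (QuotientGroup.mk' _) y)
      exact congrArg Subtype.val (perfect_hom_eq_one
        (Group.isSolvable_of_comm fun a b => mem_center_iff.1 (hall b) a) hLperf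
        (MonoidHom.id L) ⟨x, hx⟩)
    let ψ : L × C →* G := L.subtype.noncommCoprod C.subtype fun l c => c.2 l l.2
    have hT := twoSlim_of_injective _ (QuotientGroup.kerLift_injective ψ) hs
    let g : L × C →* (L ⧸ center L) × (C ⧸ Zc) :=
      (QuotientGroup.mk' (center L)).prodMap (QuotientGroup.mk' Zc)
    have hle : ψ.ker ≤ g.ker := by
      rintro ⟨l, c⟩ hlc
      change (l : G) * (c : G) = 1 at hlc
      have hl : (l : G) = (c : G)⁻¹ := eq_inv_of_mul_eq_one_left hlc
      have hlC : (l : G) ∈ C := hl ▸ inv_mem c.2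
      have hcL : (c : G) ∈ L := by
        rw [eq_inv_of_mul_eq_one_right hlc]; exact inv_mem l.2
      rw [MonoidHom.mem_ker]
      refine Prod.ext ?_ ?_
      · exact (QuotientGroup.eq_one_iff l).2
          (mem_center_iff.2 fun m => Subtype.ext (hlC m m.2))
      · exact (QuotientGroup.eq_one_iff c).2 (mem_subgroupOf.2 hcL)
    have hsurj : Function.Surjective (QuotientGroup.lift ψ.ker g hle) :=
      QuotientGroup.lift_surjective_of_surjective _ _
        (Prod.map_surjective.2 ⟨QuotientGroup.mk'_surjective _, QuotientGroup.mk'_surjective _⟩) _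
    exact odd_of_twoSlim_prod hA (oddCyclic_of_surjective _ (QuotientGroup.mk'_surjective (center L))
      (oddCyclic_of_injective L.subtype L.subtype_injective ho))
      (twoSlim_of_surjective _ hsurj hT)
  obtain ⟨K, hK⟩ := Subgroup.exists_right_complement'_of_coprime (N := Zc)
    (Nat.Coprime.coprime_dvd_left hZcard (Nat.coprime_two_left.2 hodd))
  have hKodd : Odd (Nat.card K) := hK.symm.index_eq_card ▸ hodd
  set X : Subgroup G := K.map C.subtype with hX
  have hXcard : Nat.card X = Nat.card K := Subgroup.card_map_of_injective C.subtype_injective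
  have hXC : X ≤ C := Subgroup.map_subtype_le K
  have hdec : ∀ y : C, ∃ z ∈ Zc, ∃ h ∈ K, y = z * h := by
    intro y
    obtain ⟨⟨z, h⟩, hzh⟩ := hK.2 y
    exact ⟨z, z.2, h, h.2, hzh.symm⟩
  haveI hXn : X.Normal := by
    constructor
    rintro _ ⟨x, hx, rfl⟩ g
    obtain ⟨z, hz, h, hh, hy⟩ := hdec (MulAut.conjNormal g x)
    have hk1 : ∀ w ∈ K, w ^ Nat.card K = 1 := fun w hw =>
      congrArg Subtype.val (pow_card_eq_one' (x := (⟨w, hw⟩ : K)))
    have hzc : Commute z h := by
      apply Subtype.ext
      exact h.2 z (mem_subgroupOf.1 hz)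
    have h1 : z ^ Nat.card K = 1 := by
      have := congrArg (· ^ Nat.card K) hy
      simp only [← map_pow, hk1 x hx, map_one, hzc.mul_pow, hk1 h hh, mul_one] at this
      exact this.symm
    have h2 : z ^ 2 = 1 := by
      have h0 := congrArg Subtype.val (pow_card_eq_one' (x := (⟨z, hz⟩ : Zc)))
      exact orderOf_dvd_iff_pow_eq_one.1 ((orderOf_dvd_of_pow_eq_one h0).trans hZcard)
    have hz1 : z = 1 := by
      rw [← orderOf_eq_one_iff, ← Nat.dvd_one, ← Nat.coprime_two_left.2 hKodd]
      exact Nat.dvd_gcd (orderOf_dvd_of_pow_eq_one h2) (orderOf_dvd_of_pow_eq_one h1)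
    refine ⟨h, hh, ?_⟩
    rw [hz1, one_mul] at hy
    rw [Subgroup.coe_subtype, ← hy, MulAut.conjNormal_apply]
  have hdisj : X ⊓ L = ⊥ := by
    rw [Subgroup.eq_bot_iff_forall]
    rintro _ ⟨⟨x, hx, rfl⟩, hxL⟩
    have : x ∈ Zc ⊓ K := ⟨mem_subgroupOf.2 hxL, hx⟩
    rw [hK.disjoint.eq_bot, mem_bot] at this
    rw [this]
    rfl
  have hsup : X ⊔ L = L ⊔ C := by
    apply le_antisymm (sup_le (hXC.trans le_sup_right) le_sup_left)
    refine sup_le le_sup_right fun c hc => ?_
    obtain ⟨z, hz, h, hh, hy⟩ := hdec ⟨c, hc⟩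
    have : c = (z : G) * (h : G) := congrArg Subtype.val hy
    rw [this]
    exact mul_mem (mem_sup_right (mem_subgroupOf.1 hz)) (mem_sup_left ⟨h, hh, rfl⟩)
  have hXodd : Odd (Nat.card X) := hXcard ▸ hKodd
  have hcop : (Nat.card X).Coprime (Nat.card L) := by
    refine Nat.coprime_of_dvd fun q hq hqX hqL => ?_
    haveI := Fact.mk hq
    have hq2 : q ≠ 2 := fun h => hXodd.not_two_dvd_nat (h ▸ hqX)
    obtain ⟨x, hx⟩ := exists_prime_orderOf_dvd_card' q hqX
    obtain ⟨l, hl⟩ := exists_prime_orderOf_dvd_card' q hqL
    have hcomm : Commute (x : G) (l : G) := (hXC x.2 l l.2).symm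
    let φ : zpowers x × zpowers l →* G :=
      (X.subtype.comp (zpowers x).subtype).noncommCoprod (L.subtype.comp (zpowers l).subtype)
        fun a b => (hXC (a : X).2 (b : L) (b : L).2).symm
    have hφ : Function.Injective φ := by
      rw [injective_iff_map_eq_one]
      rintro ⟨a, b⟩ hab
      change ((a : X) : G) * ((b : L) : G) = 1 at hab
      have ha : ((a : X) : G) ∈ X ⊓ L :=
        ⟨(a : X).2, by
          show ((a : X) : G) ∈ L
          rw [eq_inv_of_mul_eq_one_left hab]; exact inv_mem (b : L).2⟩
      rw [hdisj, mem_bot] at ha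
      rw [ha, one_mul] at hab
      exact Prod.ext (Subtype.ext (Subtype.ext ha)) (Subtype.ext (Subtype.ext hab))
    have hcard : Nat.card (zpowers x × zpowers l) = q ^ 2 := by
      rw [Nat.card_prod, Nat.card_zpowers, Nat.card_zpowers, hx, hl, pow_two]
    haveI := isCyclic_of_pGroup ho hq2 (IsPGroup.of_card (n := 2) hcard) φ hφ
    obtain ⟨⟨a, b⟩, hgen⟩ := IsCyclic.exists_generator (α := zpowers x × zpowers l)
    have h1 := orderOf_eq_card_of_forall_mem_zpowers hgen
    rw [hcard, Prod.orderOf] at h1
    have h2 : q ^ 2 ∣ q := by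
      rw [← h1]
      refine Nat.lcm_dvd ?_ ?_
      · have := orderOf_dvd_natCard a
        rwa [Nat.card_zpowers, hx] at this
      · have := orderOf_dvd_natCard b
        rwa [Nat.card_zpowers, hl] at this
    have h3 := Nat.le_of_dvd hq.pos h2
    have h4 := hq.one_lt
    nlinarith
  set M := L ⊔ C with hM
  have hXM : X ≤ M := hXC.trans le_sup_right
  have hLM : L ≤ M := le_sup_left
  refine ⟨M, normal_of_dvd_two hidx, hidx, X.subgroupOf M, L.subgroupOf M, inferInstance,
    inferInstance, ?_, ?_, ?_, ?_, ?_, ?_⟩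
  · rw [← Subgroup.inf_subgroupOf_right, ← Subgroup.bot_subgroupOf M]
    ext m
    simp only [mem_inf, mem_subgroupOf, ← hdisj]
    tauto
  · rw [← Subgroup.subgroupOf_sup hXM hLM, hsup, Subgroup.subgroupOf_self]
  · rwa [Nat.card_congr (Subgroup.subgroupOfEquivOfLe hXM).toEquiv,
      Nat.card_congr (Subgroup.subgroupOfEquivOfLe hLM).toEquiv]
  · rwa [Nat.card_congr (Subgroup.subgroupOfEquivOfLe hXM).toEquiv]
  · haveI : IsZGroup (X.subgroupOf M) := by
      refine ⟨fun p hp P => ?_⟩
      haveI := Fact.mk hp
      rw [← Nat.card_congr (Subgroup.subgroupOfEquivOfLe hXM).toEquiv] at hXodd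
      by_cases h2 : p = 2
      · subst h2
        obtain ⟨k, hk⟩ := P.isPGroup'.exists_card_eq
        rcases Nat.eq_zero_or_pos k with rfl | hk0
        · haveI := (Nat.card_eq_one_iff_unique.1 (by simpa using hk : Nat.card P = 1)).1
          exact isCyclic_of_subsingleton
        · exact absurd ((dvd_pow_self 2 hk0.ne').trans
            (hk ▸ Subgroup.card_subgroup_dvd_card (P : Subgroup (X.subgroupOf M))))
            hXodd.not_two_dvd_nat
      · exact oddCyclic_of_injective (M.subtype.comp (X.subgroupOf M).subtype)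
          (M.subtype_injective.comp (X.subgroupOf M).subtype_injective) ho p hp h2 P
    exact ⟨commutator _, inferInstance, IsZGroup.isCyclic_commutator _,
      IsZGroup.isCyclic_abelianization⟩
  · exact good_of_equiv (Subgroup.subgroupOfEquivOfLe hLM) hgood

/-- Perfect groups with these Sylow subgroups. -/
theorem core (hyp : ∀ (K : Type u) [Group K] [Finite K], Hyp K → SimpleGoal K) :
    ∀ (n : ℕ) (G : Type u) [Group G] [Finite G], Nat.card G = n → commutator G = ⊤ →
      Nontrivial G → OddCyclic G → TwoSlim G → Good G := by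
  intro n
  induction n using Nat.strong_induction_on with
  | _ n ih =>
    intro G _ _ hn hperf hnt ho hs
    have hns := not_solvable_of_perfect hperf
    obtain ⟨Z, ⟨hZn, hZs⟩, hmax⟩ := (wellFounded_gt (α := Subgroup G)).has_min
      {N : Subgroup G | N.Normal ∧ Group.IsSolvable N}
      ⟨⊥, inferInstance, Group.isSolvable_of_comm fun a b => Subsingleton.elim _ _⟩
    haveI := hZn
    have hZc : Z ≤ center G := le_center_of_solvable hperf ho hs Z hZs
    have hrad : ∀ N : Subgroup (G ⧸ Z), N.Normal → Group.IsSolvable N → N = ⊥ := by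
      intro N hN hNs
      have hle : Z ≤ N.comap (QuotientGroup.mk' Z) := fun z hz => by
        rw [mem_comap, QuotientGroup.mk'_apply, (QuotientGroup.eq_one_iff z).2 hz]
        exact one_mem N
      have hsol : Group.IsSolvable (N.comap (QuotientGroup.mk' Z)) := by
        haveI := hZs
        haveI := hNs
        refine Group.isSolvable_of_ker_le_range (Subgroup.inclusion hle)
          ((QuotientGroup.mk' Z).subgroupComap N) ?_
        intro x hx
        have : (x : G) ∈ Z := (QuotientGroup.eq_one_iff (x : G)).1 (congrArg Subtype.val hx)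
        exact ⟨⟨x, this⟩, rfl⟩
      have heq : N.comap (QuotientGroup.mk' Z) = Z := by
        by_contra hne
        exact hmax _ ⟨hN.comap _, hsol⟩ (lt_of_le_of_ne hle (Ne.symm hne))
      rw [← Subgroup.map_comap_eq_self_of_surjective (QuotientGroup.mk'_surjective Z) N, heq,
        QuotientGroup.map_mk'_self]
    have hQperf : commutator (G ⧸ Z) = ⊤ := by
      rw [commutator_def, ← Subgroup.map_top_of_surjective _ (QuotientGroup.mk'_surjective Z),
        ← Subgroup.map_commutator, ← commutator_def, hperf]
    haveI hQnt : Nontrivial (G ⧸ Z) := by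
      refine QuotientGroup.nontrivial_iff.2 fun h => hns ?_
      rw [h] at hZs
      exact Group.isSolvable_of_surjective (f := (Subgroup.topEquiv (G := G)).toMonoidHom)
        Subgroup.topEquiv.surjective
    have hQle : Nat.card (G ⧸ Z) ≤ n :=
      hn ▸ Nat.le_of_dvd Nat.card_pos (Subgroup.card_quotient_dvd_card Z)
    have hQo := oddCyclic_of_surjective _ (QuotientGroup.mk'_surjective Z) ho
    have hQs := twoSlim_of_surjective _ (QuotientGroup.mk'_surjective Z) hs
    have hrec : ∀ H : Subgroup (G ⧸ Z), H ≠ ⊤ → ∀ P : Subgroup H, P ≠ ⊥ →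
        commutator P = ⊤ → Good P := by
      intro H hH P hP hPp
      have hlt : Nat.card P < n := by
        refine lt_of_le_of_lt (Nat.le_of_dvd Nat.card_pos (Subgroup.card_subgroup_dvd_card P)) ?_
        refine lt_of_lt_of_le ?_ hQle
        rcases lt_or_eq_of_le (Nat.le_of_dvd Nat.card_pos (Subgroup.card_subgroup_dvd_card H))
          with h | h
        · exact h
        · exact absurd (Subgroup.eq_top_of_card_eq H h) hH
      exact ih _ hlt P rfl hPp ((Subgroup.nontrivial_iff_ne_bot P).2 hP)
        (oddCyclic_of_injective ((H.subtype).comp P.subtype)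
          (H.subtype_injective.comp P.subtype_injective) hQo)
        (twoSlim_of_injective ((H.subtype).comp P.subtype)
          (H.subtype_injective.comp P.subtype_injective) hQs)
    have hsimple : IsSimpleGroup (G ⧸ Z) := by
      refine ⟨fun N hN => ?_⟩
      by_contra hcon
      rw [not_or] at hcon
      obtain ⟨hNb, hNt⟩ := hcon
      obtain ⟨D₀, hD₀c, hD₀p, hD₀b⟩ := exists_perfect_core N
      haveI := hN
      haveI := hD₀c
      have hD₀ne : D₀ ≠ ⊥ := fun h => hNb (hrad N hN (hD₀b h))
      have hgood₀ : Good D₀ := hrec N hNt D₀ hD₀ne hD₀p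
      set D := D₀.map N.subtype with hDdef
      haveI : D.Normal := ConjAct.normal_of_characteristic_of_normal
      let e := D₀.equivMapOfInjective N.subtype N.subtype_injective
      have hgood : Good D := good_of_equiv e.symm hgood₀
      have hDp : commutator D = ⊤ := by
        rw [commutator_def, ← Subgroup.map_top_of_surjective e.toMonoidHom e.surjective,
          ← Subgroup.map_commutator, ← commutator_def, hD₀p]
      have htop : D ⊔ centralizer (D : Set (G ⧸ Z)) = ⊤ :=
        eq_top_of_dvd_two hQperf (index_sup_centralizer D hDp hgood)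
      set C := centralizer (D : Set (G ⧸ Z)) with hCdef
      haveI : C.Normal := Subgroup.normal_centralizer
      have hDC : D ⊓ C = ⊥ := by
        refine hrad _ inferInstance (Group.isSolvable_of_comm fun a b => Subtype.ext ?_)
        exact (b.2.2 a a.2.1)
      have hCne : C ≠ ⊥ := by
        intro h
        rw [h, sup_bot_eq] at htop
        exact hNt (eq_top_iff.2 (htop ▸ Subgroup.map_subtype_le D₀))
      have hCns : ¬ Group.IsSolvable C := fun h => hCne (hrad C inferInstance h)
      let ψ : D × C →* G ⧸ Z := D.subtype.noncommCoprod C.subtype fun d c => c.2 d d.2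
      have hψ : Function.Injective ψ := by
        rw [injective_iff_map_eq_one]
        rintro ⟨d, c⟩ hdc
        change (d : G ⧸ Z) * (c : G ⧸ Z) = 1 at hdc
        have hd : (d : G ⧸ Z) ∈ D ⊓ C :=
          ⟨d.2, by
            show (d : G ⧸ Z) ∈ C
            rw [eq_inv_of_mul_eq_one_left hdc]; exact inv_mem c.2⟩
        rw [hDC, mem_bot] at hd
        rw [hd, one_mul] at hdc
        exact Prod.ext (Subtype.ext hd) (Subtype.ext hdc)
      have hDns : ¬ Group.IsSolvable D := by
        haveI : Nontrivial D := (Subgroup.nontrivial_iff_ne_bot D).2 fun h =>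
          hD₀ne ((Subgroup.map_eq_bot_iff_of_injective _ N.subtype_injective).1 h)
        exact not_solvable_of_perfect hDp
      have hodd := odd_of_twoSlim_prod hDns
        (oddCyclic_of_injective D.subtype D.subtype_injective hQo)
        (twoSlim_of_injective ψ hψ hQs)
      exact hCns (solvable_of_odd (oddCyclic_of_injective C.subtype C.subtype_injective hQo) hodd)
    have hQ : Hyp (G ⧸ Z) := by
      refine ⟨hsimple, fun h => not_solvable_of_perfect hQperf
        (Group.isSolvable_of_comm fun a b => h.is_comm.comm a b), hQo, hQs, fun H hH hHns => ?_⟩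
      exact concl_of_core hHns (oddCyclic_of_injective H.subtype H.subtype_injective hQo)
        (twoSlim_of_injective H.subtype H.subtype_injective hQs) (hrec H hH)
    obtain ⟨p, hp, h5, ⟨e⟩⟩ := hyp (G ⧸ Z) hQ
    refine perfect_cover p h5 hperf (e.toMonoidHom.comp (QuotientGroup.mk' Z))
      (e.surjective.comp (QuotientGroup.mk'_surjective Z)) ?_
    intro x hx
    exact hZc ((QuotientGroup.eq_one_iff x).1 (e.injective (hx.trans (map_one e).symm)))

/-- Module A of S4069: reduction to simple groups. -/
theorem reduce : ReduceStmt.{u} := by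
  intro hyp G _ _ hns ho hs
  exact concl_of_core hns ho hs fun P hP hPp =>
    core hyp _ P rfl hPp ((Subgroup.nontrivial_iff_ne_bot P).2 hP)
      (oddCyclic_of_injective P.subtype P.subtype_injective ho)
      (twoSlim_of_injective P.subtype P.subtype_injective hs)

end H23.CSy
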